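import Mathlib

/-!
# S5714: the numerical part of the two regimes (helper1)

* `numU`: unbounded rank;
* `numB`: bounded rank.
-/

set_option autoImplicit false

namespace Cfsg.Agent.H1.Rg

open Filter

/-- powers are at most exponentials -/
theorem pow_le_exp (C : ℝ) (b : ℕ) {δ : ℝ} (hδ : 0 < δ) : ∃ x0 : ℝ, ∀ x : ℝ, x0 ≤ x → C * x ^ b ≤ Real.exp (δ * x) := by
  have h := (isLittleO_pow_exp_pos_mul_atTop b hδ).bound (c := (|C| + 1)⁻¹) (by positivity)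
  obtain ⟨x0, hx0⟩ := eventually_atTop.1 h
  refine ⟨x0, fun x hx => ?_⟩
  have h1 := hx0 x hx
  have hc : 0 < |C| + 1 := by positivity
  rw [Real.norm_of_nonneg (Real.exp_pos _).le, inv_mul_eq_div, le_div_iff₀ hc, Real.norm_eq_abs] at h1
  calc C * x ^ b ≤ |C * x ^ b| := le_abs_self _
    _ = |C| * |x ^ b| := abs_mul _ _
    _ ≤ |x ^ b| * (|C| + 1) := by nlinarith [abs_nonneg (x ^ b), abs_nonneg C]
    _ ≤ _ := h1

theorem log_two_half : (1 / 2 : ℝ) ≤ Real.log 2 := by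
  have := Real.log_two_gt_d9
  linarith

/-- the numbers for unbounded rank -/
theorem numU (a : ℕ) (A c1 w η : ℝ) (hA : 0 ≤ A) (hc1 : 0 ≤ c1) (hw : 0 ≤ w) (hη : 0 < η) :
    ∃ t0 : ℕ, ∀ t : ℕ, t0 ≤ t → ∀ Q : ℝ, 2 ≤ Q → ∀ n : ℕ, n + 1 ≤ (t + 1) ^ 4 → ∀ l : ℝ, 0 ≤ l →
      l ≤ (n : ℝ) ^ 2 * Real.log Q →
      A * (l ^ a + 1) ^ 3 * ((n : ℝ) + 1) ^ 3 * (c1 * Q ^ (-(t : ℝ) / 16)) ≤ η ∧ w * (l ^ a) ^ 2 ≤ Q ^ t := by
  let B : ℝ := 66048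
  obtain ⟨x1, h1⟩ := pow_le_exp (A * (2 * B ^ a) ^ 3 * 4 ^ 12 * c1 / η) ((9 * a) * 3 + 12) (δ := 1 / 16) (by norm_num)
  obtain ⟨x2, h2⟩ := pow_le_exp (w * (2 * B ^ a) ^ 2) ((9 * a) * 2) (δ := 1) (by norm_num)
  refine ⟨⌈2 * max x1 x2⌉₊ + 1, fun t ht Q hQ n hn l hl hl2 => ?_⟩
  have hQ0 : 0 < Q := by linarith
  have hlog : 1 / 2 ≤ Real.log Q := log_two_half.trans (Real.log_le_log (by norm_num) hQ)
  have ht1 : 1 ≤ t := by omega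
  have ht1' : (1 : ℝ) ≤ t := by exact_mod_cast ht1
  set Y : ℝ := t * Real.log Q with hY
  have hYt : (t : ℝ) ≤ 2 * Y := by rw [hY]; nlinarith
  have hYl : Real.log Q ≤ Y := by rw [hY]; nlinarith
  have hY1 : 1 ≤ 2 * Y := by linarith
  have hY0 : 0 < Y := by linarith
  have hYx : max x1 x2 ≤ Y := by
    have h3 : 2 * max x1 x2 ≤ ⌈2 * max x1 x2⌉₊ := Nat.le_ceil _
    have h4 : ((⌈2 * max x1 x2⌉₊ + 1 : ℕ) : ℝ) ≤ t := by exact_mod_cast ht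
    push_cast at h4
    linarith
  have hn4 : (n : ℝ) + 1 ≤ (4 * Y) ^ 4 := by
    have h3 : ((n + 1 : ℕ) : ℝ) ≤ (((t + 1) ^ 4 : ℕ) : ℝ) := by exact_mod_cast hn
    push_cast at h3
    exact h3.trans (pow_le_pow_left₀ (by positivity) (by linarith) 4)
  have hn0 : (0 : ℝ) ≤ n := Nat.cast_nonneg _
  have hlB : l + 1 ≤ B * Y ^ 9 := by
    have h3 : (n : ℝ) ^ 2 ≤ ((4 * Y) ^ 4) ^ 2 := pow_le_pow_left₀ hn0 (by linarith) 2
    have h4 : (n : ℝ) ^ 2 * Real.log Q ≤ ((4 * Y) ^ 4) ^ 2 * Y :=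
      mul_le_mul h3 hYl (by linarith) (by positivity)
    have h5 : (1 : ℝ) ≤ (2 * Y) ^ 9 := one_le_pow₀ hY1
    have h6 : ((4 * Y) ^ 4) ^ 2 * Y = 65536 * Y ^ 9 := by ring
    have h7 : (2 * Y) ^ 9 = 512 * Y ^ 9 := by ring
    change l + 1 ≤ (66048 : ℝ) * Y ^ 9
    rw [h6] at h4
    rw [h7] at h5
    linarith
  have hla : l ^ a + 1 ≤ 2 * B ^ a * Y ^ (9 * a) := by
    have h3 : l ^ a ≤ (l + 1) ^ a := pow_le_pow_left₀ hl (by linarith) a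
    have h4 : (1 : ℝ) ≤ (l + 1) ^ a := one_le_pow₀ (by linarith)
    have h5 : (l + 1) ^ a ≤ (B * Y ^ 9) ^ a := pow_le_pow_left₀ (by linarith) hlB a
    rw [mul_pow, ← pow_mul] at h5
    linarith
  have hla0 : 0 ≤ l ^ a := pow_nonneg hl a
  have hQt : Q ^ (-(t : ℝ) / 16) = (Real.exp (1 / 16 * Y))⁻¹ := by
    rw [Real.rpow_def_of_pos hQ0, ← Real.exp_neg, hY]
    congr 1
    ring
  have hQt2 : Q ^ t = Real.exp (1 * Y) := by
    rw [hY, one_mul, ← Real.exp_log hQ0, ← Real.exp_nat_mul, Real.log_exp]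
  constructor
  · have h3 := h1 Y ((le_max_left _ _).trans hYx)
    rw [hQt]
    have he : 0 < Real.exp (1 / 16 * Y) := Real.exp_pos _
    rw [← mul_assoc, ← div_eq_mul_inv, div_le_iff₀ he]
    have h4 : A * (l ^ a + 1) ^ 3 * ((n : ℝ) + 1) ^ 3 * c1 ≤
        A * (2 * B ^ a * Y ^ (9 * a)) ^ 3 * ((4 * Y) ^ 4) ^ 3 * c1 := by gcongr
    refine h4.trans ?_
    have h5 : A * (2 * B ^ a * Y ^ (9 * a)) ^ 3 * ((4 * Y) ^ 4) ^ 3 * c1 =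
        η * (A * (2 * B ^ a) ^ 3 * 4 ^ 12 * c1 / η * Y ^ ((9 * a) * 3 + 12)) := by
      have h6 : η * (A * (2 * B ^ a) ^ 3 * 4 ^ 12 * c1 / η * Y ^ ((9 * a) * 3 + 12)) =
        (η / η) * (A * (2 * B ^ a) ^ 3 * 4 ^ 12 * c1 * Y ^ ((9 * a) * 3 + 12)) := by ring
      rw [h6, div_self hη.ne', pow_add, pow_mul]
      ring
    rw [h5]
    exact mul_le_mul_of_nonneg_left h3 hη.le
  · have h3 := h2 Y ((le_max_right _ _).trans hYx)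
    rw [hQt2]
    refine le_trans ?_ h3
    have h4 : w * (l ^ a) ^ 2 ≤ w * (2 * B ^ a * Y ^ (9 * a)) ^ 2 := by
      gcongr
      linarith
    refine h4.trans (le_of_eq ?_)
    rw [mul_pow, ← pow_mul Y]
    ring

/-- the numbers for bounded rank -/
theorem numB (a n1 : ℕ) (A w η : ℝ) (hA : 0 ≤ A) (hw : 0 ≤ w) (hη : 0 < η) :
    ∃ q0 : ℕ, ∀ Q : ℕ, q0 ≤ Q → ∀ l : ℝ, 0 ≤ l → l ≤ (n1 : ℝ) ^ 2 * Real.log Q →
      A * (l ^ a + 1) ^ 3 * (Q : ℝ) ^ (-(1 : ℝ) / 16) ≤ η ∧ w * (l ^ a) ^ 2 ≤ Real.sqrt Q := by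
  let B : ℝ := (n1 : ℝ) ^ 2 + 1
  have hB : 0 ≤ B := by positivity
  obtain ⟨x1, h1⟩ := pow_le_exp (A * (2 * B ^ a) ^ 3 / η) (a * 3) (δ := 1 / 16) (by norm_num)
  obtain ⟨x2, h2⟩ := pow_le_exp (w * (2 * B ^ a) ^ 2) (a * 2) (δ := 1 / 2) (by norm_num)
  refine ⟨⌈Real.exp (max 1 (max x1 x2))⌉₊ + 1, fun Q hQ l hl hl2 => ?_⟩
  have h3 : Real.exp (max 1 (max x1 x2)) ≤ Q := by
    have h4 : Real.exp (max 1 (max x1 x2)) ≤ ⌈Real.exp (max 1 (max x1 x2))⌉₊ := Nat.le_ceil _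
    have h5 : ((⌈Real.exp (max 1 (max x1 x2))⌉₊ + 1 : ℕ) : ℝ) ≤ Q := by exact_mod_cast hQ
    push_cast at h5
    linarith
  have hQ0 : (0 : ℝ) < Q := (Real.exp_pos _).trans_le h3
  set Y : ℝ := Real.log Q with hY
  have hYx : max 1 (max x1 x2) ≤ Y := by
    rw [hY, ← Real.log_exp (max 1 (max x1 x2))]
    exact Real.log_le_log (Real.exp_pos _) h3
  have hY1 : 1 ≤ Y := (le_max_left _ _).trans hYx
  have hY0 : 0 < Y := by linarith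
  have hlB : l + 1 ≤ B * Y := by
    change l + 1 ≤ ((n1 : ℝ) ^ 2 + 1) * Y
    nlinarith
  have hla : l ^ a + 1 ≤ 2 * B ^ a * Y ^ a := by
    have h3 : l ^ a ≤ (l + 1) ^ a := pow_le_pow_left₀ hl (by linarith) a
    have h4 : (1 : ℝ) ≤ (l + 1) ^ a := one_le_pow₀ (by linarith)
    have h5 : (l + 1) ^ a ≤ (B * Y) ^ a := pow_le_pow_left₀ (by linarith) hlB a
    rw [mul_pow] at h5
    linarith
  have hla0 : 0 ≤ l ^ a := pow_nonneg hl a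
  have hQt : (Q : ℝ) ^ (-(1 : ℝ) / 16) = (Real.exp (1 / 16 * Y))⁻¹ := by
    rw [Real.rpow_def_of_pos hQ0, ← Real.exp_neg, hY]
    congr 1
    ring
  have hQt2 : Real.sqrt Q = Real.exp (1 / 2 * Y) := by
    rw [Real.sqrt_eq_rpow, Real.rpow_def_of_pos hQ0, hY]
    congr 1
    ring
  constructor
  · have h3 := h1 Y ((le_max_left _ _).trans ((le_max_right _ _).trans hYx))
    rw [hQt]
    have he : 0 < Real.exp (1 / 16 * Y) := Real.exp_pos _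
    rw [← div_eq_mul_inv, div_le_iff₀ he]
    have h4 : A * (l ^ a + 1) ^ 3 ≤ A * (2 * B ^ a * Y ^ a) ^ 3 := by gcongr
    refine h4.trans ?_
    have h5 : A * (2 * B ^ a * Y ^ a) ^ 3 = η * (A * (2 * B ^ a) ^ 3 / η * Y ^ (a * 3)) := by
      have h6 : η * (A * (2 * B ^ a) ^ 3 / η * Y ^ (a * 3)) =
        (η / η) * (A * (2 * B ^ a) ^ 3 * Y ^ (a * 3)) := by ring
      rw [h6, div_self hη.ne', pow_mul]
      ring
    rw [h5]
    exact mul_le_mul_of_nonneg_left h3 hη.le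
  · have h3 := h2 Y ((le_max_right _ _).trans ((le_max_right _ _).trans hYx))
    rw [hQt2]
    refine le_trans ?_ h3
    have h4 : w * (l ^ a) ^ 2 ≤ w * (2 * B ^ a * Y ^ a) ^ 2 := by
      gcongr
      linarith
    refine h4.trans (le_of_eq ?_)
    rw [mul_pow, ← pow_mul Y]
    ring

end Cfsg.Agent.H1.Rg
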