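import Cfsg.Agent.H1.Rg.Two
import Cfsg.Agent.H466.RG.Coset

/-!
# S5714: the two regimes for orthogonal groups (helper1)
-/

set_option autoImplicit false

namespace Cfsg.Agent.H1.Rg

open Cfsg Cfsg.Agent.OrdDiv Cfsg.Agent.H436 Cfsg.Agent.H141.Rg Polynomial Module Cfsg.Agent.H122

/-- the second half of the statement `el_om` -/
def ElOmS : Prop :=
  ∀ (ι : Type) [Fintype ι] [DecidableEq ι] (F : Type) [Field F] [Finite F] (Q : QuadraticForm F (ι → F)),
    (QuadraticMap.polarBilin Q).Nondegenerate → 6 ≤ Fintype.card ι →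
    EL (RingHom.id F) (omAct F Q) (Polynomial.X ^ 2 - 1) (fun _ => 4) ∧ ELpm (omAct F Q) (fun _ => 4) ∧
      ELsh (omAct F Q) 4

/-- the minimal degree for characters -/
theorem deg_of_minDeg {T : Type} [Group T] [Finite T] {b : ℕ} (h : MinDeg T b) (χ : T → ℂ) (hχ : IsIrrCharacter T χ)
    (h1 : ∃ g, χ g ≠ 1) : (b : ℝ) ≤ (χ 1).re := by
  obtain ⟨n, hn, hn1⟩ := H466.RG.le_degree h hχ (by
    rintro rfl
    obtain ⟨g, hg⟩ := h1
    exact hg rfl)
  rw [hn1, Complex.natCast_re]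
  exact_mod_cast hn

/-- the data of an orthogonal group -/
structure OD {ι : Type} [Fintype ι] [DecidableEq ι] (F : Type) [Field F] (Q : QuadraticForm F (ι → F)) (T : Type)
    [Group T] (m : ℕ) : Prop where
  nd : (QuadraticMap.polarBilin Q).Nondegenerate
  six : 6 ≤ Fintype.card ι
  le1 : 2 * m ≤ Fintype.card ι
  le2 : Fintype.card ι ≤ 2 * m + 1
  le3 : m + 5 ≤ 2 * (Fintype.card ι - 3)
  hom : ∃ π : Omega F Q →* T, Function.Surjective π ∧ π.ker ≤ Subgroup.center (Omega F Q)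
  cls : Nat.card (ConjClasses (Omega F Q)) ≤ 60 * Nat.card F ^ m
  deg1 : MinDeg T (Nat.card F ^ (m - 2) - 1)
  deg2 : 4 ≤ Nat.card F → MinDeg T (Nat.card F ^ (Fintype.card ι - 3))

theorem omAct_injective {ι : Type} [Fintype ι] [DecidableEq ι] (F : Type) [Field F] (Q : (ι → F) → F) :
    Function.Injective (omAct F Q) := by
  intro x y h
  have h1 : Matrix.toLin' ((x.1.1 : Matrix.GeneralLinearGroup ι F) : Matrix ι ι F) =
    Matrix.toLin' ((y.1.1 : Matrix.GeneralLinearGroup ι F) : Matrix ι ι F) := h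
  exact Subtype.ext (Subtype.ext (Units.ext (Matrix.toLin'.injective h1)))

theorem card_om_le {ι : Type} [Fintype ι] [DecidableEq ι] (F : Type) [Field F] [Finite F] (Q : (ι → F) → F) :
    Nat.card (Omega F Q) ≤ Nat.card F ^ (Fintype.card ι) ^ 2 := by
  have h : Nat.card (Omega F Q) ≤ Nat.card (Matrix ι ι F) := by
    refine Nat.card_le_card_of_injective
      (fun x => ((x.1.1 : Matrix.GeneralLinearGroup ι F) : Matrix ι ι F)) ?_
    intro x y h
    exact Subtype.ext (Subtype.ext (Units.ext h))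
  refine h.trans (le_of_eq ?_)
  have h1 : Nat.card (Matrix ι ι F) = (Nat.card F ^ Fintype.card ι) ^ Fintype.card ι := by
    change Nat.card (ι → ι → F) = _
    rw [Nat.card_fun, Nat.card_fun, Nat.card_eq_fintype_card (α := ι)]
  rw [h1, ← pow_mul, sq]

set_option maxHeartbeats 1000000 in
/-- **Both regimes.** -/
theorem main (hcore : CoreS) (hsmall : SmallS) (hsmo : SmallOS) (hbad : BadS) (hel : ElOmS) (a : ℕ) (ε : ℝ)
    (hε : 0 < ε) :
    ∃ D : ℕ, ∀ (ι : Type) [Fintype ι] [DecidableEq ι] (F : Type) [Field F] [Finite F] (Q : QuadraticForm F (ι → F))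
      (T : Type) [Group T] [Finite T] (m : ℕ), OD F Q T m → D ≤ Nat.card T →
      (badN T (lg T ^ a) ((lg T ^ a)⁻¹) : ℝ) ≤ ε * Nat.card T := by
  obtain ⟨n0, hU⟩ := unb hcore hsmall hbad a ε 4 hε (by norm_num)
  obtain ⟨A, hA, hcore⟩ := hcore
  obtain ⟨A', hA', hsmo⟩ := hsmo
  set n1 : ℕ := max n0 35 with hn1
  obtain ⟨q0, hB⟩ := bdd hbad a n1 ε (4 * A * ((n1 : ℝ) + 1) ^ 3 + 4 * A' + 60) hε (by positivity)
  refine ⟨(q0 + 4) ^ n1 ^ 2 + 2, ?_⟩
  intro ι _ _ F _ _ Q T _ _ m hD hT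
  obtain ⟨π, hπ, hker⟩ := hD.hom
  obtain ⟨h1, h2, h3⟩ := hel ι F Q hD.nd hD.six
  have hq2 : 2 ≤ Nat.card F := Finite.one_lt_card
  have hq2' : (2 : ℝ) ≤ Nat.card F := by exact_mod_cast hq2
  have hq0 : (0 : ℝ) < Nat.card F := by linarith
  have hT2 : 2 ≤ Nat.card T := by omega
  have hTX : Nat.card T ≤ Nat.card F ^ (Fintype.card ι) ^ 2 :=
    (Nat.card_le_card_of_surjective π hπ).trans (card_om_le F Q)
  have hfr : finrank F (ι → F) = Fintype.card ι := finrank_fintype_fun_eq_card F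
  have hle3 := hD.le3
  have hle2 := hD.le2
  have hle1 := hD.le1
  by_cases hn : n1 ≤ Fintype.card ι
  · -- unbounded rank
    have hm17 : 17 ≤ m := by
      have : 35 ≤ Fintype.card ι := (le_max_right _ _).trans hn
      omega
    refine hU F (ι → F) (Omega F Q) T π hπ hker (omAct F Q) (omAct_injective F Q) (RingHom.id F) (fun _ => rfl)
      (Polynomial.X ^ 2 - 1) (Or.inr rfl) (fun _ => 4) (fun _ => by norm_num) (fun _ _ => le_refl _)
      (fun _ => by linarith) h1 (fun _ => h2) ((Nat.card F ^ (m - 2) - 1 : ℕ) : ℝ) (Nat.cast_nonneg _)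
      (deg_of_minDeg hD.deg1) (by rw [hfr]; exact (le_max_left _ _).trans hn) hT2 (by rw [hfr]; exact hTX) ?_
    rw [hfr]
    have h4 : Nat.card F ^ (m - 3) ≤ Nat.card F ^ (m - 2) - 1 := by
      have h5 : Nat.card F ^ (m - 2) = Nat.card F ^ (m - 3) * Nat.card F := by
        rw [← pow_succ]
        congr 1
        omega
      have h6 : 1 ≤ Nat.card F ^ (m - 3) := Nat.one_le_pow _ _ (by omega)
      have h7 : Nat.card F ^ (m - 3) * 2 ≤ Nat.card F ^ (m - 3) * Nat.card F := Nat.mul_le_mul_left _ hq2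
      omega
    have h5 : Nat.card F ^ (Fintype.card ι / 8) * Nat.card (ConjClasses (Omega F Q)) ≤
        (Nat.card F ^ (m - 2) - 1) ^ 2 := by
      calc Nat.card F ^ (Fintype.card ι / 8) * Nat.card (ConjClasses (Omega F Q))
          ≤ Nat.card F ^ (Fintype.card ι / 8) * (60 * Nat.card F ^ m) := Nat.mul_le_mul_left _ hD.cls
        _ ≤ Nat.card F ^ (Fintype.card ι / 8) * (Nat.card F ^ 6 * Nat.card F ^ m) := by
            have : 2 ^ 6 ≤ Nat.card F ^ 6 := Nat.pow_le_pow_left hq2 6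
            exact Nat.mul_le_mul_left _ (Nat.mul_le_mul_right _ (by omega))
        _ = Nat.card F ^ (Fintype.card ι / 8 + (6 + m)) := by rw [← pow_add, ← pow_add]
        _ ≤ Nat.card F ^ ((m - 3) * 2) := Nat.pow_le_pow_right (by omega) (by omega)
        _ = (Nat.card F ^ (m - 3)) ^ 2 := by rw [pow_mul]
        _ ≤ _ := Nat.pow_le_pow_left h4 2
    exact_mod_cast h5
  · -- bounded rank
    have hn' : Fintype.card ι ≤ n1 := by omega
    have hq : q0 + 4 ≤ Nat.card F := by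
      by_contra hcon
      have h4 : Nat.card T ≤ (q0 + 4) ^ n1 ^ 2 := by
        refine hTX.trans ((Nat.pow_le_pow_left (by omega : Nat.card F ≤ q0 + 4) _).trans ?_)
        exact Nat.pow_le_pow_right (by omega) (Nat.pow_le_pow_left hn' 2)
      omega
    have hX : (0 : ℝ) < Nat.card (Omega F Q) := by exact_mod_cast Nat.card_pos
    refine hB F (ι → F) (Omega F Q) T π hπ hker (omAct F Q) (omAct_injective F Q)
      ((Nat.card F ^ (Fintype.card ι - 3) : ℕ) : ℝ) (Nat.cast_nonneg _) (deg_of_minDeg (hD.deg2 (by omega)))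
      (by omega) hT2 (hTX.trans (Nat.pow_le_pow_right (by omega) (Nat.pow_le_pow_left hn' 2))) 2 ?_ ?_
    · intro k hk
      have hk' : (1 : ℝ) ≤ k := by exact_mod_cast hk
      have h4 := card_or_le (X := Omega F Q)
        (P := fun x => ¬ ∃ A : Submodule F (ι → F), finrank F A ≤ 2 ∧ GoodPow (omAct F Q x) A k)
        (Q := fun x => ¬ GoodPow (omAct F Q x) (smallP (omAct F Q x) (Sml 1 (Polynomial.X ^ 2 - 1))) k)
        (R := fun x => 2 < finrank F (smallP (omAct F Q x) (Sml 1 (Polynomial.X ^ 2 - 1)))) (fun x hx => by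
          by_contra hcon
          push Not at hcon
          exact hx ⟨_, hcon.2, hcon.1⟩)
      have h4' : (Nat.card {x : Omega F Q // ¬ ∃ A : Submodule F (ι → F), finrank F A ≤ 2 ∧
          GoodPow (omAct F Q x) A k} : ℝ) ≤
          Nat.card {x : Omega F Q // ¬ GoodPow (omAct F Q x) (smallP (omAct F Q x) (Sml 1 (Polynomial.X ^ 2 - 1))) k} +
          Nat.card {x : Omega F Q // 2 < finrank F (smallP (omAct F Q x) (Sml 1 (Polynomial.X ^ 2 - 1)))} := by
        exact_mod_cast h4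
      have h5 := hcore F (ι → F) (Omega F Q) (RingHom.id F) (fun _ => rfl) (omAct F Q) (Polynomial.X ^ 2 - 1)
        (Or.inr rfl) (fun _ => 4) (fun _ => by norm_num) h1 k 1 (4 * (Nat.card F : ℝ) ^ (-(1 : ℝ) / 16)) (by positivity) hk
        (le_refl _) (by
          intro D hD1 _
          refine mul_le_mul_of_nonneg_left ?_ (by norm_num)
          refine Real.rpow_le_rpow_of_exponent_le (by linarith) ?_
          have : (1 : ℝ) ≤ D := by exact_mod_cast hD1
          linarith)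
      have h6 := hsmo F (ι → F) (Omega F Q) (omAct F Q) 4 (by norm_num) h3
      rw [hfr] at h5
      set P : ℝ := (Nat.card F : ℝ) ^ (-(1 : ℝ) / 16) with hP
      have hP0 : 0 < P := Real.rpow_pos_of_pos hq0 _
      have hPq : (Nat.card F : ℝ)⁻¹ ≤ P := by
        rw [hP, ← Real.rpow_neg_one]
        exact Real.rpow_le_rpow_of_exponent_le (by linarith) (by norm_num)
      have h7 : A * (k : ℝ) ^ 3 * ((Fintype.card ι : ℝ) + 1) ^ 3 * (4 * P) ≤
          4 * A * ((n1 : ℝ) + 1) ^ 3 * k ^ 3 * P := by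
        have h8 : ((Fintype.card ι : ℝ) + 1) ^ 3 ≤ ((n1 : ℝ) + 1) ^ 3 := by
          have : (Fintype.card ι : ℝ) ≤ n1 := by exact_mod_cast hn'
          gcongr
        have h9 : A * (k : ℝ) ^ 3 * ((Fintype.card ι : ℝ) + 1) ^ 3 * (4 * P) ≤
          A * (k : ℝ) ^ 3 * ((n1 : ℝ) + 1) ^ 3 * (4 * P) := by gcongr
        linarith
      have h8 : A' * 4 / Nat.card F ≤ 4 * A' * k ^ 3 * P := by
        rw [div_eq_mul_inv]
        have h9 : (1 : ℝ) ≤ (k : ℝ) ^ 3 := one_le_pow₀ hk'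
        have h10 : A' * 4 * (Nat.card F : ℝ)⁻¹ ≤ A' * 4 * P := mul_le_mul_of_nonneg_left hPq (by positivity)
        have h11 : A' * 4 * P ≤ A' * 4 * P * (k : ℝ) ^ 3 := le_mul_of_one_le_right (by positivity) h9
        linarith
      have h9 : 0 ≤ 60 * (k : ℝ) ^ 3 * P := by positivity
      have h10 := mul_le_mul_of_nonneg_right h7 hX.le
      have h11 := mul_le_mul_of_nonneg_right h8 hX.le
      have h12 := mul_nonneg h9 hX.le
      calc (Nat.card {x : Omega F Q // ¬ ∃ A : Submodule F (ι → F), finrank F A ≤ 2 ∧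
          GoodPow (omAct F Q x) A k} : ℝ) ≤ _ := h4'
        _ ≤ A * (k : ℝ) ^ 3 * ((Fintype.card ι : ℝ) + 1) ^ 3 * (4 * P) * Nat.card (Omega F Q) +
            A' * 4 / Nat.card F * Nat.card (Omega F Q) := add_le_add h5 h6
        _ ≤ (4 * A * ((n1 : ℝ) + 1) ^ 3 + 4 * A' + 60) * k ^ 3 * P * Nat.card (Omega F Q) := by linarith
    · have hcl : (Nat.card (ConjClasses (Omega F Q)) : ℝ) ≤ 60 * (Nat.card F : ℝ) ^ m := by
        exact_mod_cast hD.cls
      have hsq : Real.sqrt (Nat.card F) ≤ Nat.card F := by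
        rw [Real.sqrt_le_left hq0.le]
        nlinarith
      have h4 : (Nat.card F : ℝ) ^ (2 ^ 2) * Nat.card (ConjClasses (Omega F Q)) * Real.sqrt (Nat.card F) ≤
          (Nat.card F : ℝ) ^ (2 ^ 2) * (60 * (Nat.card F : ℝ) ^ m) * Nat.card F := by gcongr
      have h5 : (Nat.card F : ℝ) ^ (2 ^ 2) * (60 * (Nat.card F : ℝ) ^ m) * Nat.card F =
          60 * (Nat.card F : ℝ) ^ (m + 5) := by ring
      have h6 : (Nat.card F : ℝ) ^ (m + 5) ≤ (((Nat.card F ^ (Fintype.card ι - 3) : ℕ) : ℝ)) ^ 2 := by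
        push_cast
        rw [← pow_mul]
        exact pow_le_pow_right₀ (by linarith) (by omega)
      have h7 : 0 ≤ (((Nat.card F ^ (Fintype.card ι - 3) : ℕ) : ℝ)) ^ 2 := by positivity
      have h8 : 0 ≤ (4 * A * ((n1 : ℝ) + 1) ^ 3 + 4 * A') * (((Nat.card F ^ (Fintype.card ι - 3) : ℕ) : ℝ)) ^ 2 := by
        positivity
      linarith

end Cfsg.Agent.H1.Rg
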