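import Cfsg.Agent.H1.Rg.OrthRows
import Cfsg.Agent.H926.RG.Core
import Cfsg.Agent.H244.Rg.SumsB
import Cfsg.Agent.H5.Rg.Small
import Cfsg.Agent.H342.Rg.Cent
import Cfsg.Agent.H156.Rg.O

/-!
# S5714, C14: `FamP` for the orthogonal groups, without hypotheses (helper1)
-/

set_option autoImplicit false

namespace Cfsg.Agent.H1.Rg

open Cfsg Cfsg.Agent.OrdDiv Cfsg.Agent.H436 Cfsg.Agent.H141.Rg Polynomial Module

theorem coreS : CoreS := Cfsg.Agent.H926.RG.core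

theorem smallS : SmallS := Cfsg.Agent.H5.Rg.small_le_of Cfsg.Agent.H244.Rg.sum_cyc

theorem smallOS : SmallOS := Cfsg.Agent.H5.Rg.small_o

theorem badS : BadS := fun _ _ _ _ _ _ _ _ _ _ _ _ _ π hπ hk _ hτ _ _ _ _ _ hw hd hdeg hρ hnum =>
  Cfsg.Agent.H342.Rg.badN_le π hπ hk hτ hw hd hdeg hρ hnum

theorem elOmS : ElOmS := fun _ _ _ F _ _ Q hQ h3 => Cfsg.Agent.H156.Rg.el_om F Q hQ h3

/-- **`FamP` for `PΩ_{2m+1}(q)`.** -/
theorem famP_oodd' : FamP (fun g => ∃ m q, g = .oodd m q) := famP_oodd coreS smallS smallOS badS elOmS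

/-- **`FamP` for `PΩ⁺_{2m}(q)`.** -/
theorem famP_oplus' : FamP (fun g => ∃ m q, g = .oplus m q) := famP_oplus coreS smallS smallOS badS elOmS

/-- **`FamP` for `PΩ⁻_{2m}(q)`.** -/
theorem famP_ominus' : FamP (fun g => ∃ m q, g = .ominus m q) := famP_ominus coreS smallS smallOS badS elOmS

end Cfsg.Agent.H1.Rg
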