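import Cfsg.Agent.H1.Rg.Orth
import Cfsg.Agent.H912.BdOrth2
import Cfsg.Agent.H122.OrthPlus
import Cfsg.Agent.H122.OrthMinus
import Cfsg.Agent.H117.OmegaOdd
import Cfsg.Agent.H540.ClassNum
import Cfsg.Agent.LieClassical.OmegaReindex
import Cfsg.Agent.S0788
import Cfsg.Agent.S0789
import Cfsg.Agent.S2558
import Cfsg.Agent.S2560
import Cfsg.Agent.H170.EvenUpper

/-!
# S5714: `FamP` for the orthogonal groups (helper1)

`famP_oodd`, `famP_oplus`, `famP_ominus`, from the statements `CoreS`, `SmallS`, `SmallOS`, `BadS`, `ElOmS`.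
-/

set_option autoImplicit false

namespace Cfsg.Agent.H1.Rg

open Cfsg Cfsg.Agent.OrdDiv Cfsg.Agent.H436 Cfsg.Agent.H141.Rg Polynomial Module Cfsg.Agent.H122
open Cfsg.Agent.LieClassical.OmegaReindex QuadraticMap

/-- nontrivial representations of simple groups are faithful -/
theorem minDeg_of_bd {T : Type} [Group T] [IsSimpleGroup T] {r b : ℕ} (h : H912.Bd.Bd ℂ r b T) : MinDeg T b := by
  intro M _ _ _ ρ hρ
  refine h _ ⟨T, inferInstance, MonoidHom.id T,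
    MonoidHom.toHomUnits (((LinearMap.toMatrixAlgEquiv (finBasis ℂ M)).toAlgHom.toMonoidHom).comp ρ),
    fun t => ⟨t, rfl⟩, ?_, ?_, ?_⟩
  · intro x hx y
    have hx' : x = 1 := hx
    rw [hx', one_mul, mul_one]
  · have : (MonoidHom.id T).ker = ⊥ := (MonoidHom.ker_eq_bot_iff _).2 fun _ _ h => h
    rw [this, Subgroup.card_bot]
    exact Nat.coprime_one_left r
  · intro x hx
    have h1 : (LinearMap.toMatrixAlgEquiv (finBasis ℂ M)) (ρ x) = 1 := congrArg Units.val hx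
    have h2 : ρ x = 1 := (LinearMap.toMatrixAlgEquiv (finBasis ℂ M)).injective (h1.trans (map_one _).symm)
    have h3 : x ∈ MonoidHom.ker ρ := h2
    have h4 : (MonoidHom.ker ρ) = ⊥ ∨ (MonoidHom.ker ρ) = ⊤ := (MonoidHom.normal_ker ρ).eq_bot_or_eq_top
    rcases h4 with h4 | h4
    · rw [h4, Subgroup.mem_bot] at h3
      exact h3
    · obtain ⟨g, hg⟩ := hρ
      exact absurd (show g ∈ MonoidHom.ker ρ from h4 ▸ Subgroup.mem_top g) hg

section

variable {ι : Type} [Fintype ι] [DecidableEq ι] {F : Type} [Field F] [Fintype F]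

/-- the index of `Ω` -/
theorem index_le {Q : QuadraticForm F (ι → F)} (hQ : (polarBilin Q).Nondegenerate) (h5 : 5 ≤ Fintype.card ι) :
    (Cfsg.Omega F (⇑Q)).index ≤ 4 := by
  by_cases h2 : (2 : F) = 0
  · have hch : CharP F 2 := CharTwo.of_one_ne_zero_of_two_eq_zero one_ne_zero h2
    rw [index_omega_of_fin rfl (fun Q' hQ' => Cfsg.Agent.S0789.result (by omega) Q' hQ' (Or.inr (by omega))) Q hQ]
    norm_num
  · rw [index_omega_of_fin rfl (fun Q' hQ' => Cfsg.Agent.S0788.result h2 (by omega) Q' hQ') Q hQ]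

theorem cls_le {Q : QuadraticForm F (ι → F)} (hQ : (polarBilin Q).Nondegenerate) (h5 : 5 ≤ Fintype.card ι) {m : ℕ}
    (h : Nat.card (ConjClasses (Cfsg.isometryGroup F (⇑Q))) ≤ 15 * Nat.card F ^ m) :
    Nat.card (ConjClasses (Cfsg.Omega F (⇑Q))) ≤ 60 * Nat.card F ^ m := by
  refine (H540.ClassNum.le_index_mul (Cfsg.Omega F (⇑Q))).trans ?_
  calc (Cfsg.Omega F (⇑Q)).index * Nat.card (ConjClasses (Cfsg.isometryGroup F (⇑Q)))
      ≤ 4 * (15 * Nat.card F ^ m) := Nat.mul_le_mul (index_le hQ h5) h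
    _ = 60 * Nat.card F ^ m := by ring

omit [Fintype F] in
theorem hom_of {Q : (ι → F) → F} {T : Type} [Group T] (e : T ≃* POmega F Q) :
    ∃ π : Omega F Q →* T, Function.Surjective π ∧ π.ker ≤ Subgroup.center (Omega F Q) := by
  refine ⟨e.symm.toMonoidHom.comp (QuotientGroup.mk' (Subgroup.center (Omega F Q))),
    e.symm.surjective.comp (QuotientGroup.mk'_surjective _), ?_⟩
  intro x hx
  have h1 : e.symm (QuotientGroup.mk' (Subgroup.center (Omega F Q)) x) = 1 := hx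
  rw [MulEquiv.map_eq_one_iff] at h1
  exact (QuotientGroup.eq_one_iff x).1 h1

theorem exists_char (F : Type) [Field F] [Fintype F] : ∃ r : ℕ, r.Prime ∧ CharP F r := by
  obtain ⟨r, hr⟩ := CharP.exists F
  obtain ⟨n, hrp, hn⟩ := FiniteField.card F r
  exact ⟨r, hrp, hr⟩

end

section rows

variable {F : Type} [Field F] [Fintype F] {T : Type} [Group T] [IsSimpleGroup T]

theorem prime_cast_ne {r : ℕ} (hr : r.Prime) : (r : ℂ) ≠ 0 := Nat.cast_ne_zero.2 hr.ne_zero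

/-- the minimal degree for `Ω⁺` -/
theorem minDeg_plus (hF : 4 ≤ Fintype.card F) {m : ℕ} (hm : 4 ≤ m) :
    MinDeg (Omega F (⇑(quadPlus m F))) (Fintype.card F ^ (2 * m - 3)) := by
  classical
  obtain ⟨k, rfl⟩ : ∃ k, m = k + 3 := ⟨m - 3, by omega⟩
  have hG : Cfsg.Agent.LieClassical.OrthTrans.Good (Cfsg.Agent.LieClassical.OrthForms.plusForm (k + 3) F) :=
    Cfsg.Agent.LieClassical.OrthFinite.good_of_finite
      (Cfsg.Agent.LieClassical.OrthForms.nondeg_plusForm (k + 3) F) (by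
        rw [Module.finrank_fintype_fun_eq_card, Fintype.card_sum, Fintype.card_fin]; omega)
  obtain ⟨e⟩ := Cfsg.Agent.H122.OrthPlus.omega_equiv hG
  rw [Cfsg.Agent.LieClassical.OrthForms.coe_plusForm] at e
  rw [coe_quadPlus]
  refine ((Cfsg.Agent.H122.OrthPlus.minDeg_plus hF k).congr e).mono ?_
  rw [← Cfsg.Agent.H122.OrthPlus.bound_plus (by omega)]
  set q := Fintype.card F with hq
  have h1 : 1 ≤ q ^ k := Nat.one_le_pow _ _ (by omega)
  have h4 : 4 ^ 2 ≤ q ^ 2 := Nat.pow_le_pow_left hF 2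
  rw [Nat.le_div_iff_mul_le (by omega)]
  have e1 : 2 * (k + 3) - 3 = 2 * k + 3 := by omega
  rw [e1, show k + 3 - 1 = k + 2 by omega]
  have h5 : 1 ≤ q ^ (k + 3) := Nat.one_le_pow _ _ (by omega)
  zify [h5, (by omega : 1 ≤ q ^ 2)]
  have h6 : (1 : ℤ) ≤ (q : ℤ) ^ k := by exact_mod_cast h1
  have h7 : (4 : ℤ) ≤ q := by exact_mod_cast hF
  have e2 : (q : ℤ) ^ (2 * k + 3) = ((q : ℤ) ^ k) ^ 2 * q ^ 3 := by rw [pow_add, mul_comm 2 k, pow_mul]
  have e3 : (q : ℤ) ^ (k + 3) = (q : ℤ) ^ k * q ^ 3 := pow_add _ _ _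
  have e4 : (q : ℤ) ^ (k + 2) = (q : ℤ) ^ k * q ^ 2 := pow_add _ _ _
  rw [e2, e3, e4]
  set A := (q : ℤ) ^ k
  have h8 : 0 ≤ (A - 1) * q ^ 4 := mul_nonneg (by linarith) (by positivity)
  have h9 : 0 ≤ (A ^ 2 * q ^ 3 - A * q ^ 2) := by
    have : A * q ^ 2 ≤ A ^ 2 * q ^ 3 := by
      have h10 : A ≤ A ^ 2 := by nlinarith
      have h11 : (q : ℤ) ^ 2 ≤ q ^ 3 := pow_le_pow_right₀ (by linarith) (by norm_num)
      have h12 : 0 ≤ A ^ 2 := sq_nonneg A
      have h13 : (0 : ℤ) ≤ q ^ 2 := by positivity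
      exact mul_le_mul h10 h11 h13 h12
    linarith
  have h10 : (q : ℤ) ≤ q ^ 4 := le_self_pow₀ (by linarith) (by norm_num)
  nlinarith

/-- the minimal degree for `Ω⁻` -/
theorem minDeg_minus {m : ℕ} (hm : 4 ≤ m) (a b : F)
    (hab : ∀ z₁ z₂ : F, z₁ ^ 2 + a * z₁ * z₂ + b * z₂ ^ 2 = 0 → z₁ = 0 ∧ z₂ = 0) :
    MinDeg (Omega F (⇑(quadMinus (m - 1) F a b))) (Fintype.card F ^ (2 * m - 3)) := by
  classical
  obtain ⟨k, rfl⟩ : ∃ k, m = k + 4 := ⟨m - 4, by omega⟩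
  rw [show k + 4 - 1 = k + 3 by omega]
  have hG : Cfsg.Agent.LieClassical.OrthTrans.Good (Cfsg.Agent.LieClassical.OrthForms.minusForm (k + 3) F a b) :=
    Cfsg.Agent.LieClassical.OrthFinite.good_of_finite
      (Cfsg.Agent.LieClassical.OrthForms.nondeg_minusForm (k + 3) F a b hab) (by
        rw [Module.finrank_fintype_fun_eq_card, Fintype.card_sum, Fintype.card_sum, Fintype.card_fin,
          Fintype.card_fin]; omega)
  obtain ⟨e⟩ := Cfsg.Agent.H122.OrthPlus.omega_equiv hG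
  rw [Cfsg.Agent.LieClassical.OrthForms.coe_minusForm] at e
  rw [coe_quadMinus]
  refine ((Cfsg.Agent.H122.OrthMinus.minDeg_minus a b hab k).congr e).mono ?_
  have hF2 : 2 ≤ Fintype.card F := Fintype.one_lt_card
  rw [← Cfsg.Agent.H122.OrthMinus.bound_minus hF2]
  set q := Fintype.card F with hq
  have h1 : 1 ≤ q ^ k := Nat.one_le_pow _ _ (by omega)
  have h4 : 2 ^ 2 ≤ q ^ 2 := Nat.pow_le_pow_left hF2 2
  rw [Nat.le_div_iff_mul_le (by omega)]
  have e1 : 2 * (k + 4) - 3 = 2 * k + 5 := by omega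
  rw [e1, show k + 4 - 1 = k + 3 by omega]
  have h5 : q ≤ q ^ (k + 3) := Nat.le_self_pow (by omega) q
  zify [h5, (by omega : 1 ≤ q ^ 2)]
  have h6 : (1 : ℤ) ≤ (q : ℤ) ^ k := by exact_mod_cast h1
  have h7 : (2 : ℤ) ≤ q := by exact_mod_cast hF2
  have e2 : (q : ℤ) ^ (2 * k + 5) = ((q : ℤ) ^ k) ^ 2 * q ^ 5 := by rw [pow_add, mul_comm 2 k, pow_mul]
  have e3 : (q : ℤ) ^ (k + 4) = (q : ℤ) ^ k * q ^ 4 := pow_add _ _ _
  have e4 : (q : ℤ) ^ (k + 3) = (q : ℤ) ^ k * q ^ 3 := pow_add _ _ _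
  rw [e2, e3, e4]
  set A := (q : ℤ) ^ k
  have h8 : 0 ≤ (A ^ 2 - A) * q ^ 5 := mul_nonneg (by nlinarith) (by positivity)
  have h9 : (q : ℤ) ≤ A * q ^ 3 := by
    have h10 : (q : ℤ) ≤ q ^ 3 := le_self_pow₀ (by linarith) (by norm_num)
    have h11 : (q : ℤ) ^ 3 ≤ A * q ^ 3 := le_mul_of_one_le_left (by positivity) h6
    linarith
  nlinarith

/-- the minimal degree for `Ω_{2m+1}` -/
theorem minDeg_odd (h2 : (2 : F) ≠ 0) (hF : 5 ≤ Fintype.card F) {m : ℕ} (hm : 3 ≤ m) :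
    MinDeg (Omega F (⇑(quadOdd m F))) (Fintype.card F ^ (2 * m + 1 - 3)) := by
  rw [coe_quadOdd]
  intro M _ _ _ ρ hρ
  refine le_trans ?_ (Cfsg.Agent.H117.omega_bound h2 hF hm ρ hρ)
  obtain ⟨k, rfl⟩ : ∃ k, m = k + 1 := ⟨m - 1, by omega⟩
  rw [H117.tt, show 2 * (k + 1) + 1 - 3 = 2 * k by omega]
  omega

theorem od_odd {m : ℕ} (hm : 3 ≤ m) (hodd : Odd (Fintype.card F)) (e : T ≃* POmega F (quadFormOdd m F)) :
    OD F (quadOdd m F) T m := by
  have h2 : (2 : F) ≠ 0 := S2558.two_ne_zero_of_odd hodd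
  have hQ := quadOdd_nondegenerate (m := m) (F := F) h2
  have hc : Fintype.card (Unit ⊕ (Fin m ⊕ Fin m)) = 2 * m + 1 := by simp; omega
  obtain ⟨r, hr, hch⟩ := exists_char F
  rw [← coe_quadOdd] at e
  obtain ⟨π, hπ, hker⟩ := hom_of e
  refine ⟨hQ, by omega, by omega, by omega, by omega, ⟨π, hπ, hker⟩, ?_, ?_, ?_⟩
  · have h := (S2560.result hodd m (by omega)).2
    rw [← coe_quadOdd] at h
    rw [Nat.card_eq_fintype_card (α := F)]
    omega
  · have h := H912.Bd.bd_pomega_odd_sl (F := ℂ) hr (prime_cast_ne hr) hch hm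
    rw [← coe_quadOdd] at h
    refine (minDeg_of_bd (h.congr e)).mono ?_
    rw [Nat.card_eq_fintype_card (α := F)]
    have : Fintype.card F ^ (m - 2) ≤ Fintype.card F ^ (m - 1) := Nat.pow_le_pow_right Fintype.card_pos (by omega)
    omega
  · intro h4
    rw [Nat.card_eq_fintype_card (α := F)] at h4 ⊢
    have h5 : 5 ≤ Fintype.card F := by
      obtain ⟨j, hj⟩ := hodd
      omega
    rw [hc]
    exact (minDeg_odd h2 h5 hm).of_surjective π hπ

theorem od_plus {m : ℕ} (hm : 4 ≤ m) (e : T ≃* POmega F (quadFormPlus m F)) : OD F (quadPlus m F) T m := by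
  have hQ := quadPlus_nondegenerate (m := m) (F := F)
  have hc : Fintype.card (Fin m ⊕ Fin m) = 2 * m := by simp; omega
  obtain ⟨r, hr, hch⟩ := exists_char F
  rw [← coe_quadPlus] at e
  obtain ⟨π, hπ, hker⟩ := hom_of e
  refine ⟨hQ, by omega, by omega, by omega, by omega, ⟨π, hπ, hker⟩, ?_, ?_, ?_⟩
  · refine cls_le hQ (by omega) ?_
    rw [coe_quadPlus]
    rcases Nat.even_or_odd (Fintype.card F) with he | ho
    · exact H170.EvenUpper.card_plus_le (by rwa [Nat.card_eq_fintype_card]) m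
    · have h := S2558.upper ho hc (H169.OddForms.gramPlus m F) (H169.OddForms.gramPlus_symm m)
        (H169.OddForms.gramPlus_det m) _ (H169.OddForms.gramPlus_form m)
      rw [Nat.card_eq_fintype_card (α := F)]
      omega
  · have h := H912.Bd.bd_pomega_plus_sl (F := ℂ) hr (prime_cast_ne hr) hch (m := m) (by omega)
    rw [← coe_quadPlus] at h
    refine (minDeg_of_bd (h.congr e)).mono ?_
    rw [Nat.card_eq_fintype_card (α := F)]
    have : Fintype.card F ^ (m - 2) ≤ Fintype.card F ^ (m - 1) := Nat.pow_le_pow_right Fintype.card_pos (by omega)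
    omega
  · intro h4
    rw [Nat.card_eq_fintype_card (α := F)] at h4 ⊢
    rw [hc]
    exact (minDeg_plus h4 hm).of_surjective π hπ

theorem od_minus {m : ℕ} (hm : 4 ≤ m) (a b : F)
    (hab : ∀ z₁ z₂ : F, z₁ ^ 2 + a * z₁ * z₂ + b * z₂ ^ 2 = 0 → z₁ = 0 ∧ z₂ = 0)
    (e : T ≃* POmega F (quadFormMinus (m - 1) F a b)) : OD F (quadMinus (m - 1) F a b) T m := by
  have hQ := quadMinus_nondegenerate (m := m - 1) hab
  have hc : Fintype.card ((Fin (m - 1) ⊕ Fin (m - 1)) ⊕ Fin 2) = 2 * m := by simp; omega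
  obtain ⟨r, hr, hch⟩ := exists_char F
  rw [← coe_quadMinus] at e
  obtain ⟨π, hπ, hker⟩ := hom_of e
  refine ⟨hQ, by omega, by omega, by omega, by omega, ⟨π, hπ, hker⟩, ?_, ?_, ?_⟩
  · refine cls_le hQ (by omega) ?_
    rw [coe_quadMinus]
    rcases Nat.even_or_odd (Fintype.card F) with he | ho
    · have h := H170.EvenUpper.card_minus_le (F := F) (by rwa [Nat.card_eq_fintype_card]) (m - 1) a b hab
      rwa [Nat.sub_add_cancel (by omega : 1 ≤ m)] at h
    · have h := S2558.upper ho hc (H169.OddForms.gramMinus (m - 1) F a b) (H169.OddForms.gramMinus_symm _ a b)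
        (H169.OddForms.gramMinus_det (S2558.two_ne_zero_of_odd ho) _ a b hab) _ (H169.OddForms.gramMinus_form _ a b)
      rw [Nat.card_eq_fintype_card (α := F)]
      omega
  · have h := H912.Bd.bd_pomega_minus_sl (F := ℂ) hr (prime_cast_ne hr) hch (m := m - 1) (by omega) a b
    rw [← coe_quadMinus] at h
    refine (minDeg_of_bd (h.congr e)).mono ?_
    rw [Nat.card_eq_fintype_card (α := F), show m - 1 - 1 = m - 2 by omega]
  · intro h4
    rw [Nat.card_eq_fintype_card (α := F)] at h4 ⊢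
    rw [hc]
    exact (minDeg_minus hm a b hab).of_surjective π hπ

end rows

theorem famP_oodd (hcore : CoreS) (hsmall : SmallS) (hsmo : SmallOS) (hbad : BadS) (hel : ElOmS) :
    FamP (fun g => ∃ m q, g = .oodd m q) := by
  intro a ε hε
  obtain ⟨D, hD⟩ := main hcore hsmall hsmo hbad hel a ε hε
  refine ⟨D, fun g T _ _ _ hN hP hT => ?_⟩
  obtain ⟨m, q, rfl⟩ := hP
  obtain ⟨F, _, _, hF, ⟨e⟩⟩ := hN.real
  exact hD _ F _ T m (od_odd hN.cond.1 (hF ▸ hN.cond.2.1) e) hT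

theorem famP_oplus (hcore : CoreS) (hsmall : SmallS) (hsmo : SmallOS) (hbad : BadS) (hel : ElOmS) :
    FamP (fun g => ∃ m q, g = .oplus m q) := by
  intro a ε hε
  obtain ⟨D, hD⟩ := main hcore hsmall hsmo hbad hel a ε hε
  refine ⟨D, fun g T _ _ _ hN hP hT => ?_⟩
  obtain ⟨m, q, rfl⟩ := hP
  obtain ⟨F, _, _, hF, ⟨e⟩⟩ := hN.real
  exact hD _ F _ T m (od_plus hN.cond.1 e) hT

theorem famP_ominus (hcore : CoreS) (hsmall : SmallS) (hsmo : SmallOS) (hbad : BadS) (hel : ElOmS) :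
    FamP (fun g => ∃ m q, g = .ominus m q) := by
  intro a ε hε
  obtain ⟨D, hD⟩ := main hcore hsmall hsmo hbad hel a ε hε
  refine ⟨D, fun g T _ _ _ hN hP hT => ?_⟩
  obtain ⟨m, q, rfl⟩ := hP
  obtain ⟨F, _, _, a', b', hF, hab, ⟨e⟩⟩ := hN.real
  exact hD _ F _ T m (od_minus hN.cond.1 a' b' hab e) hT

end Cfsg.Agent.H1.Rg
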