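import Cfsg.Agent.H141.Rg.Defs
import Cfsg.Agent.H141.Rg.Act
import Cfsg.Agent.H1.Rg.Num

/-!
# S5714: the two regimes (helper1)

`CoreS`, `SmallS`, `SmallOS`, `BadS`: the statements `core`, `small_le`, `small_o`, `badN_le` of
`tools/plans/S5714_stubs.lean.txt` as propositions.

* `unb`: unbounded rank;
* `bdd`: bounded rank.
-/

set_option autoImplicit false

namespace Cfsg.Agent.H1.Rg

open Cfsg Cfsg.Agent.OrdDiv Cfsg.Agent.H436 Cfsg.Agent.H141.Rg Polynomial Module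

/-- the statement `core` -/
def CoreS : Prop :=
  ∃ A : ℝ, 0 < A ∧ ∀ (K V : Type) [Field K] [Finite K] [AddCommGroup V] [Module K V] [Finite V] (X : Type) [Group X]
    [Finite X] (σ : K →+* K), (∀ x, σ (σ x) = x) → ∀ (τ : X →* (V →ₗ[K] V)) (s : K[X]), (s = 1 ∨ s = Polynomial.X ^ 2 - 1) →
    ∀ (c : ℕ → ℝ), (∀ D, 1 ≤ c D) → EL σ τ s c → ∀ (k L : ℕ) (M : ℝ), 0 ≤ M → 1 ≤ k → 1 ≤ L →
    (∀ D, L ≤ D → D ≤ finrank K V → c D * (Nat.card K : ℝ) ^ (-(D : ℝ) / 16) ≤ M) →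
    (Nat.card {x : X // ¬ GoodPow (τ x) (smallP (τ x) (Sml L s)) k} : ℝ) ≤
      A * k ^ 3 * ((finrank K V : ℝ) + 1) ^ 3 * M * Nat.card X

/-- the statement `small_le` -/
def SmallS : Prop :=
  ∃ A : ℝ, 0 < A ∧ ∀ (K V : Type) [Field K] [Finite K] [AddCommGroup V] [Module K V] [Finite V] (X : Type) [Group X]
    [Finite X] (σ : K →+* K), (∀ x, σ (σ x) = x) → ∀ (τ : X →* (V →ₗ[K] V)) (s : K[X]), (s = 1 ∨ s = Polynomial.X ^ 2 - 1) →
    ∀ (c : ℕ → ℝ) (c1 : ℝ), 1 ≤ c1 → (∀ D, 2 * D < finrank K V → c D ≤ c1) → (∀ D, c D ≤ c1 * Nat.card K) →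
    EL σ τ s c → (s ≠ 1 → ELpm τ c) → ∀ L : ℕ, 1 ≤ L → 16 * L ≤ finrank K V →
    (∑ᶠ x : X, (finrank K (smallP (τ x) (Sml L s)) : ℝ)) ≤ A * c1 * L * Nat.card X

/-- the statement `small_o` -/
def SmallOS : Prop :=
  ∃ A : ℝ, 0 < A ∧ ∀ (K V : Type) [Field K] [Finite K] [AddCommGroup V] [Module K V] [Finite V] (X : Type) [Group X]
    [Finite X] (τ : X →* (V →ₗ[K] V)) (c : ℝ), 1 ≤ c → ELsh τ c →
    (Nat.card {x : X // 2 < finrank K (smallP (τ x) (Sml 1 (Polynomial.X ^ 2 - 1)))} : ℝ) ≤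
      A * c / Nat.card K * Nat.card X

/-- the statement `badN_le` -/
def BadS : Prop :=
  ∀ (K V : Type) [Field K] [Finite K] [AddCommGroup V] [Module K V] [Finite V] (X : Type) [Group X] [Finite X]
    (T : Type) [Group T] [Finite T] (π : X →* T), Function.Surjective π → π.ker ≤ Subgroup.center X →
    ∀ (τ : X →* (V →ₗ[K] V)), Function.Injective τ → ∀ (d ρ w : ℝ) (s0 k : ℕ), 0 < w → 0 ≤ d →
    (∀ χ : T → ℂ, IsIrrCharacter T χ → (∃ g, χ g ≠ 1) → d ≤ (χ 1).re) → 0 ≤ ρ →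
    ((Nat.card K : ℝ) ^ (s0 ^ 2) * (w * Nat.card (ConjClasses X)) ≤ (ρ * d) ^ 2) →
    (badN T k ρ : ℝ) * Nat.card X ≤
      (Nat.card {x : X // ¬ ∃ A : Submodule K V, finrank K A ≤ s0 ∧ GoodPow (τ x) A (k + 1)} + Nat.card X / w) * Nat.card T

/-- counting -/
theorem card_or_le {X : Type*} [Finite X] {P Q R : X → Prop} (h : ∀ x, P x → Q x ∨ R x) :
    Nat.card {x // P x} ≤ Nat.card {x // Q x} + Nat.card {x // R x} := by
  have h1 : {x | P x} ⊆ {x | Q x} ∪ {x | R x} := h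
  exact (Set.ncard_le_ncard h1 (Set.toFinite _)).trans (Set.ncard_union_le _ _)

/-- Markov's inequality -/
theorem markov {X : Type*} [Finite X] (f : X → ℕ) (s : ℕ) :
    (Nat.card {x // s < f x} : ℝ) * s ≤ ∑ᶠ x : X, (f x : ℝ) := by
  classical
  have : Fintype X := Fintype.ofFinite X
  rw [finsum_eq_sum_of_fintype, Nat.card_eq_fintype_card, Fintype.card_subtype, ← nsmul_eq_mul, ← Finset.sum_const]
  refine (Finset.sum_le_sum (g := fun x => (f x : ℝ)) fun x hx => ?_).trans ?_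
  · exact_mod_cast (Finset.mem_filter.1 hx).2.le
  · exact Finset.sum_le_sum_of_subset_of_nonneg (Finset.filter_subset _ _) fun x _ _ => Nat.cast_nonneg _

theorem badN_floor {T : Type} [Group T] {k ρ : ℝ} (hk : 0 ≤ k) : badN T k ρ = badN T (⌊k⌋₊ : ℝ) ρ := by
  unfold badN
  refine Nat.card_congr (Equiv.subtypeEquivRight fun y => exists_congr fun m => ?_)
  rw [Nat.cast_le, Nat.le_floor_iff hk]

/-- the last step -/
theorem assemble (hbad : BadS) {K V : Type} [Field K] [Finite K] [AddCommGroup V] [Module K V] [Finite V] {X : Type}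
    [Group X] [Finite X] {T : Type} [Group T] [Finite T] (π : X →* T) (hπ : Function.Surjective π)
    (hker : π.ker ≤ Subgroup.center X) (τ : X →* (V →ₗ[K] V)) (hτ : Function.Injective τ) (d : ℝ) (hd : 0 ≤ d)
    (hdeg : ∀ χ : T → ℂ, IsIrrCharacter T χ → (∃ g, χ g ≠ 1) → d ≤ (χ 1).re) (a s0 : ℕ) {ε : ℝ} (hε : 0 < ε)
    (hcnt : (Nat.card {x : X // ¬ ∃ A : Submodule K V, finrank K A ≤ s0 ∧ GoodPow (τ x) A (⌊lg T ^ a⌋₊ + 1)} : ℝ) ≤
      ε / 2 * Nat.card X)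
    (hnum : (Nat.card K : ℝ) ^ (s0 ^ 2) * ((2 / ε) * Nat.card (ConjClasses X)) ≤ ((lg T ^ a)⁻¹ * d) ^ 2) :
    (badN T (lg T ^ a) ((lg T ^ a)⁻¹) : ℝ) ≤ ε * Nat.card T := by
  have hl : 0 ≤ lg T := Real.log_natCast_nonneg _
  have hla : 0 ≤ lg T ^ a := pow_nonneg hl a
  have h := hbad K V X T π hπ hker τ hτ d ((lg T ^ a)⁻¹) (2 / ε) s0 ⌊lg T ^ a⌋₊ (by positivity) hd hdeg
    (inv_nonneg.2 hla) hnum
  rw [← badN_floor hla] at h
  have hX : (0 : ℝ) < Nat.card X := by exact_mod_cast Nat.card_pos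
  have hT : (0 : ℝ) ≤ Nat.card T := Nat.cast_nonneg _
  have h2 : (Nat.card X : ℝ) / (2 / ε) = ε / 2 * Nat.card X := by
    field_simp
  rw [h2] at h
  have h3 : (badN T (lg T ^ a) ((lg T ^ a)⁻¹) : ℝ) * Nat.card X ≤ (ε * Nat.card T) * Nat.card X := by
    refine h.trans ?_
    have h4 := mul_le_mul_of_nonneg_right hcnt hT
    nlinarith
  exact le_of_mul_le_mul_right h3 hX

theorem lg_le {T : Type} {Q n : ℕ} (h : Nat.card T ≤ Q ^ n) : lg T ≤ n * Real.log Q := by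
  unfold lg
  rcases (Nat.card T).eq_zero_or_pos with h0 | h0
  · rw [h0, Nat.cast_zero, Real.log_zero]
    have : 0 ≤ Real.log Q := Real.log_natCast_nonneg _
    positivity
  · rw [← Real.log_pow]
    refine Real.log_le_log (by exact_mod_cast h0) ?_
    exact_mod_cast h

set_option maxHeartbeats 2000000 in
/-- **Unbounded rank.** -/
theorem unb (hcore : CoreS) (hsmall : SmallS) (hbad : BadS) (a : ℕ) (ε c1 : ℝ) (hε : 0 < ε) (hc1 : 1 ≤ c1) :
    ∃ n0 : ℕ, ∀ (K V : Type) [Field K] [Finite K] [AddCommGroup V] [Module K V] [Finite V] (X : Type) [Group X]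
      [Finite X] (T : Type) [Group T] [Finite T] (π : X →* T), Function.Surjective π → π.ker ≤ Subgroup.center X →
      ∀ (τ : X →* (V →ₗ[K] V)), Function.Injective τ → ∀ (σ : K →+* K), (∀ x, σ (σ x) = x) →
      ∀ (s : K[X]), (s = 1 ∨ s = Polynomial.X ^ 2 - 1) → ∀ (c : ℕ → ℝ), (∀ D, 1 ≤ c D) →
      (∀ D, 2 * D < finrank K V → c D ≤ c1) → (∀ D, c D ≤ c1 * Nat.card K) → EL σ τ s c → (s ≠ 1 → ELpm τ c) →
      ∀ d : ℝ, 0 ≤ d → (∀ χ : T → ℂ, IsIrrCharacter T χ → (∃ g, χ g ≠ 1) → d ≤ (χ 1).re) → n0 ≤ finrank K V →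
      2 ≤ Nat.card T → Nat.card T ≤ Nat.card K ^ (finrank K V) ^ 2 →
      (Nat.card K : ℝ) ^ (finrank K V / 8) * Nat.card (ConjClasses X) ≤ d ^ 2 →
      (badN T (lg T ^ a) ((lg T ^ a)⁻¹) : ℝ) ≤ ε * Nat.card T := by
  obtain ⟨A, hA, hcore⟩ := hcore
  obtain ⟨A', hA', hsmall⟩ := hsmall
  obtain ⟨t0, ht0⟩ := numU a A c1 (2 / ε) (ε / 4) hA.le (by linarith) (by positivity) (by positivity)
  refine ⟨(max (max t0 8) (⌈64 * A' * c1 / ε⌉₊ + 1)) ^ 4, ?_⟩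
  intro K V _ _ _ _ _ X _ _ T _ _ π hπ hker τ hτ σ hσ s hs c hc hca hcb hEL hELpm d hd hdeg hn hT2 hT hnum
  set n := finrank K V with hnn
  set t := Nat.sqrt (Nat.sqrt n) with ht
  have ht4 : t ^ 4 ≤ n := by
    have h1 : t ^ 2 ≤ Nat.sqrt n := Nat.sqrt_le' _
    have h2 : (Nat.sqrt n) ^ 2 ≤ n := Nat.sqrt_le' _
    calc t ^ 4 = (t ^ 2) ^ 2 := by ring
      _ ≤ (Nat.sqrt n) ^ 2 := Nat.pow_le_pow_left h1 2
      _ ≤ n := h2
  have ht5 : n + 1 ≤ (t + 1) ^ 4 := by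
    have h1 : Nat.sqrt n < (t + 1) ^ 2 := Nat.lt_succ_sqrt' _
    have h2 : n < (Nat.sqrt n + 1) ^ 2 := Nat.lt_succ_sqrt' _
    calc n + 1 ≤ (Nat.sqrt n + 1) ^ 2 := h2
      _ ≤ ((t + 1) ^ 2) ^ 2 := Nat.pow_le_pow_left h1 2
      _ = (t + 1) ^ 4 := by ring
  have htm : max (max t0 8) (⌈64 * A' * c1 / ε⌉₊ + 1) ≤ t := by
    have h1 : (max (max t0 8) (⌈64 * A' * c1 / ε⌉₊ + 1)) ^ 4 < (t + 1) ^ 4 := by omega
    have h2 := lt_of_pow_lt_pow_left₀ 4 (Nat.zero_le _) h1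
    omega
  have ht8 : 8 ≤ t := ((le_max_right _ _).trans (le_max_left _ _)).trans htm
  have htt0 : t0 ≤ t := ((le_max_left _ _).trans (le_max_left _ _)).trans htm
  have htA : 64 * A' * c1 / ε ≤ t := by
    have h1 : ⌈64 * A' * c1 / ε⌉₊ + 1 ≤ t := (le_max_right _ _).trans htm
    have h2 : 64 * A' * c1 / ε ≤ ⌈64 * A' * c1 / ε⌉₊ := Nat.le_ceil _
    have h3 : ((⌈64 * A' * c1 / ε⌉₊ + 1 : ℕ) : ℝ) ≤ t := by exact_mod_cast h1
    push_cast at h3
    linarith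
  -- the field
  set Q := Nat.card K with hQ
  have hQ2 : 2 ≤ Q := Finite.one_lt_card
  have hQ2' : (2 : ℝ) ≤ Q := by exact_mod_cast hQ2
  have hQ1 : (1 : ℝ) ≤ Q := by linarith
  have hl0 : 0 < lg T := Real.log_pos (by exact_mod_cast hT2)
  have hl : lg T ≤ (n : ℝ) ^ 2 * Real.log Q := by
    have := lg_le hT
    push_cast at this
    exact this
  obtain ⟨hU1, hU2⟩ := ht0 t htt0 Q hQ2' n ht5 (lg T) hl0.le hl
  have hla : 0 < lg T ^ a := pow_pos hl0 a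
  -- the set of small dimension
  set s0 : ℕ := t ^ 2 / 8 with hs0
  have hs01 : t ^ 2 ≤ 16 * s0 := by
    have h1 : 64 ≤ t ^ 2 := by nlinarith
    omega
  have hs02 : 64 * s0 ^ 2 ≤ n := by
    have h1 : 8 * s0 ≤ t ^ 2 := Nat.mul_div_le _ _
    have h2 : (8 * s0) ^ 2 ≤ (t ^ 2) ^ 2 := Nat.pow_le_pow_left h1 2
    calc 64 * s0 ^ 2 = (8 * s0) ^ 2 := by ring
      _ ≤ (t ^ 2) ^ 2 := h2
      _ = t ^ 4 := by ring
      _ ≤ n := ht4
  have ht3 : 512 * t ≤ t ^ 4 := by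
    have h1 : 8 ^ 3 ≤ t ^ 3 := Nat.pow_le_pow_left ht8 3
    calc 512 * t ≤ t ^ 3 * t := Nat.mul_le_mul_right t h1
      _ = t ^ 4 := by ring
  have hX : (0 : ℝ) < Nat.card X := by exact_mod_cast Nat.card_pos
  refine assemble hbad π hπ hker τ hτ d hd hdeg a s0 hε ?_ ?_
  · -- counting
    have h1 : (Nat.card {x : X // ¬ ∃ A : Submodule K V, finrank K A ≤ s0 ∧ GoodPow (τ x) A (⌊lg T ^ a⌋₊ + 1)} : ℝ) ≤
        Nat.card {x : X // ¬ GoodPow (τ x) (smallP (τ x) (Sml t s)) (⌊lg T ^ a⌋₊ + 1)} +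
        Nat.card {x : X // s0 < finrank K (smallP (τ x) (Sml t s))} := by
      have h2 := card_or_le (X := X)
        (P := fun x => ¬ ∃ A : Submodule K V, finrank K A ≤ s0 ∧ GoodPow (τ x) A (⌊lg T ^ a⌋₊ + 1))
        (Q := fun x => ¬ GoodPow (τ x) (smallP (τ x) (Sml t s)) (⌊lg T ^ a⌋₊ + 1))
        (R := fun x => s0 < finrank K (smallP (τ x) (Sml t s))) (fun x hx => by
          by_contra hcon
          push Not at hcon
          exact hx ⟨_, hcon.2, hcon.1⟩)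
      exact_mod_cast h2
    have h2 := hcore K V X σ hσ τ s hs c hc hEL (⌊lg T ^ a⌋₊ + 1) t (c1 * (Q : ℝ) ^ (-(t : ℝ) / 16)) (by positivity) (by omega)
      (by omega) (by
        intro D hD1 hD2
        have hQ0 : (0 : ℝ) < Q := by linarith
        by_cases hD : 2 * D < n
        · refine mul_le_mul (hca D hD) ?_ (Real.rpow_nonneg hQ0.le _) (by linarith)
          refine Real.rpow_le_rpow_of_exponent_le hQ1 ?_
          have : (t : ℝ) ≤ D := by exact_mod_cast hD1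
          linarith
        · have h3 : c D * (Q : ℝ) ^ (-(D : ℝ) / 16) ≤ c1 * Q * (Q : ℝ) ^ (-(D : ℝ) / 16) :=
            mul_le_mul_of_nonneg_right (hcb D) (Real.rpow_nonneg hQ0.le _)
          refine h3.trans ?_
          rw [mul_assoc]
          refine mul_le_mul_of_nonneg_left ?_ (by linarith)
          have h4 : (Q : ℝ) * (Q : ℝ) ^ (-(D : ℝ) / 16) = (Q : ℝ) ^ (1 + -(D : ℝ) / 16) := by
            rw [Real.rpow_add hQ0, Real.rpow_one]
          rw [h4]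
          refine Real.rpow_le_rpow_of_exponent_le hQ1 ?_
          have h5 : t ^ 4 ≤ 2 * D := by omega
          have h6 : 512 * t ≤ 2 * D := by omega
          have h7 : (512 : ℝ) * t ≤ 2 * D := by exact_mod_cast h6
          have h8 : (8 : ℝ) ≤ t := by exact_mod_cast ht8
          linarith)
    have h3 := markov (fun x : X => finrank K (smallP (τ x) (Sml t s))) s0
    have h4 := hsmall K V X σ hσ τ s hs c c1 hc1 hca hcb hEL hELpm t (by omega) (by omega)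
    have h5 : (Nat.card {x : X // ¬ GoodPow (τ x) (smallP (τ x) (Sml t s)) (⌊lg T ^ a⌋₊ + 1)} : ℝ) ≤
        ε / 4 * Nat.card X := by
      refine h2.trans (mul_le_mul_of_nonneg_right (le_trans ?_ hU1) hX.le)
      have h6 : ((⌊lg T ^ a⌋₊ + 1 : ℕ) : ℝ) ≤ lg T ^ a + 1 := by
        push_cast
        have := Nat.floor_le hla.le
        linarith
      have h7 : 0 ≤ c1 * (Q : ℝ) ^ (-(t : ℝ) / 16) := by positivity
      have h8 : (((⌊lg T ^ a⌋₊ + 1 : ℕ) : ℝ)) ^ 3 ≤ (lg T ^ a + 1) ^ 3 := pow_le_pow_left₀ (by positivity) h6 3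
      gcongr
    have h6 : (Nat.card {x : X // s0 < finrank K (smallP (τ x) (Sml t s))} : ℝ) ≤ ε / 4 * Nat.card X := by
      have h7 : (t : ℝ) ^ 2 ≤ 16 * s0 := by exact_mod_cast hs01
      have h8 : 64 * A' * c1 ≤ t * ε := by rwa [div_le_iff₀ hε] at htA
      have h9 : (8 : ℝ) ≤ t := by exact_mod_cast ht8
      have hs0' : (0 : ℝ) < s0 := by nlinarith
      have h10 : (Nat.card {x : X // s0 < finrank K (smallP (τ x) (Sml t s))} : ℝ) * s0 ≤
          (ε / 4 * Nat.card X) * s0 := by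
        refine (h3.trans h4).trans ?_
        have h11 : A' * c1 * t ≤ ε / 4 * s0 := by nlinarith
        have h12 := mul_le_mul_of_nonneg_right h11 hX.le
        linarith
      exact le_of_mul_le_mul_right h10 hs0'
    linarith
  · -- the numbers
    have hQ0 : (0 : ℝ) < Q := by linarith
    rw [mul_pow, inv_pow, inv_mul_eq_div, le_div_iff₀ (by positivity)]
    refine le_trans ?_ hnum
    have hk : (0 : ℝ) ≤ Nat.card (ConjClasses X) := Nat.cast_nonneg _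
    have h1 : (Q : ℝ) ^ (s0 ^ 2) * (2 / ε * (lg T ^ a) ^ 2) ≤ (Q : ℝ) ^ (n / 8) := by
      have h2 : (Q : ℝ) ^ (s0 ^ 2) * (2 / ε * (lg T ^ a) ^ 2) ≤ (Q : ℝ) ^ (s0 ^ 2) * (Q : ℝ) ^ t :=
        mul_le_mul_of_nonneg_left hU2 (by positivity)
      refine h2.trans ?_
      rw [← pow_add]
      have key : ∀ a b n : ℕ, 64 * a ≤ n → 512 * b ≤ n → a + b ≤ n / 8 := by
        intro a b n h1 h2
        omega
      exact pow_le_pow_right₀ hQ1 (key _ _ _ hs02 (ht3.trans ht4))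
    have h3 := mul_le_mul_of_nonneg_right h1 hk
    linarith

/-- **Bounded rank.** -/
theorem bdd (hbad : BadS) (a n1 : ℕ) (ε C : ℝ) (hε : 0 < ε) (hC : 0 ≤ C) :
    ∃ q0 : ℕ, ∀ (K V : Type) [Field K] [Finite K] [AddCommGroup V] [Module K V] [Finite V] (X : Type) [Group X]
      [Finite X] (T : Type) [Group T] [Finite T] (π : X →* T), Function.Surjective π → π.ker ≤ Subgroup.center X →
      ∀ (τ : X →* (V →ₗ[K] V)), Function.Injective τ →
      ∀ d : ℝ, 0 ≤ d → (∀ χ : T → ℂ, IsIrrCharacter T χ → (∃ g, χ g ≠ 1) → d ≤ (χ 1).re) → q0 ≤ Nat.card K →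
      2 ≤ Nat.card T → Nat.card T ≤ Nat.card K ^ n1 ^ 2 → ∀ s0 : ℕ,
      (∀ k : ℕ, 1 ≤ k → (Nat.card {x : X // ¬ ∃ A : Submodule K V, finrank K A ≤ s0 ∧ GoodPow (τ x) A k} : ℝ) ≤
        C * k ^ 3 * (Nat.card K : ℝ) ^ (-(1 : ℝ) / 16) * Nat.card X) →
      (Nat.card K : ℝ) ^ (s0 ^ 2) * Nat.card (ConjClasses X) * Real.sqrt (Nat.card K) ≤ C * d ^ 2 →
      (badN T (lg T ^ a) ((lg T ^ a)⁻¹) : ℝ) ≤ ε * Nat.card T := by
  obtain ⟨q0, hq0⟩ := numB a n1 C (2 / ε * C) (ε / 2) hC (by positivity) (by positivity)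
  refine ⟨q0, ?_⟩
  intro K V _ _ _ _ _ X _ _ T _ _ π hπ hker τ hτ d hd hdeg hq hT2 hT s0 hcnt hnum
  set Q := Nat.card K with hQ
  have hQ2 : 2 ≤ Q := Finite.one_lt_card
  have hQ0 : (0 : ℝ) < Q := by
    have : 0 < Q := by omega
    exact_mod_cast this
  have hl0 : 0 < lg T := Real.log_pos (by exact_mod_cast hT2)
  have hl : lg T ≤ (n1 : ℝ) ^ 2 * Real.log Q := by
    have := lg_le hT
    push_cast at this
    exact this
  obtain ⟨hB1, hB2⟩ := hq0 Q hq (lg T) hl0.le hl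
  have hla : 0 < lg T ^ a := pow_pos hl0 a
  have hX : (0 : ℝ) < Nat.card X := by exact_mod_cast Nat.card_pos
  refine assemble hbad π hπ hker τ hτ d hd hdeg a s0 hε ?_ ?_
  · refine (hcnt (⌊lg T ^ a⌋₊ + 1) (by omega)).trans (mul_le_mul_of_nonneg_right (le_trans ?_ hB1) hX.le)
    have h6 : ((⌊lg T ^ a⌋₊ + 1 : ℕ) : ℝ) ≤ lg T ^ a + 1 := by
      push_cast
      have := Nat.floor_le hla.le
      linarith
    have h7 : 0 ≤ (Q : ℝ) ^ (-(1 : ℝ) / 16) := Real.rpow_nonneg hQ0.le _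
    have h8 : (((⌊lg T ^ a⌋₊ + 1 : ℕ) : ℝ)) ^ 3 ≤ (lg T ^ a + 1) ^ 3 := pow_le_pow_left₀ (by positivity) h6 3
    gcongr
  · rw [mul_pow, inv_pow, inv_mul_eq_div, le_div_iff₀ (by positivity)]
    have hk : (0 : ℝ) ≤ Nat.card (ConjClasses X) := Nat.cast_nonneg _
    have hs : 0 < Real.sqrt Q := Real.sqrt_pos.2 hQ0
    rcases hC.eq_or_lt with hC0 | hC0
    · -- `C = 0`
      rw [← hC0, zero_mul] at hnum
      have h1 : (0 : ℝ) < Nat.card (ConjClasses X) := by exact_mod_cast Nat.card_pos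
      have h2 : 0 < (Q : ℝ) ^ (s0 ^ 2) * Nat.card (ConjClasses X) * Real.sqrt Q := by positivity
      linarith
    · have h1 : (2 / ε * (lg T ^ a) ^ 2) * C ≤ Real.sqrt Q := by linarith
      have h2 : (Q : ℝ) ^ (s0 ^ 2) * Nat.card (ConjClasses X) * ((2 / ε * (lg T ^ a) ^ 2) * C) ≤ C * d ^ 2 :=
        (mul_le_mul_of_nonneg_left h1 (by positivity)).trans hnum
      refine le_of_mul_le_mul_left ?_ hC0
      linarith

end Cfsg.Agent.H1.Rg
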